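import Cfsg.Agent.Lib.PLocal.PComplement
import Cfsg.Agent.Lib.PLocal.Omega
import Cfsg.Agent.Lib.PLocal.Action
import Cfsg.Agent.Lib.Coprime.PQ

/-!
Preparations for `J(S) ≤ O_p(G)`, `p ≥ 5` (namespace `Cfsg.Agent.JBound`).

* `exists_factor`: a bottom factor `B / U` inside a normal `p`-subgroup which is not centralised by `O^p(G)`
* `exists_commutator_mul_mem`: a consequence of maximality of the order of an abelian subgroup
-/

set_option autoImplicit false

namespace Cfsg.Agent.JBound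

open Subgroup PLocal
open scoped commutatorElement

universe u

variable {G : Type u} [Group G] {p : ℕ}

theorem exists_factor [Finite G] [Fact p.Prime] {H : Subgroup G} [H.Normal] (hH : IsPGroup p H)
    (hO : ¬ Cfsg.pResidual p G ≤ centralizer (H : Set G)) :
    ∃ B U : Subgroup G, B.Normal ∧ U.Normal ∧ B ≤ H ∧ U ≤ B ∧ Cfsg.pResidual p G ≤ centralizer (U : Set G) ∧
      ¬ ⁅B, Cfsg.pResidual p G⁆ ≤ U ∧ U ≤ centralizer (B : Set G) ∧ ⁅B, H⁆ ≤ U ∧ (∀ x ∈ B, x ^ p ∈ U) := by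
  haveI := Transfer.pResidual_normal (G := G) (p := p)
  set O := Cfsg.pResidual p G with hOdef
  obtain ⟨B, ⟨hBn, hBH, hBO⟩, hmin⟩ := Set.exists_min_image
    {B : Subgroup G | B.Normal ∧ B ≤ H ∧ ¬ O ≤ centralizer (B : Set G)}
    (fun B => Nat.card B) (Set.toFinite _) ⟨H, inferInstance, le_rfl, hO⟩
  haveI := hBn
  set U := B ⊓ centralizer (O : Set G)
  haveI hUn : U.Normal := inferInstance
  have hUO : O ≤ centralizer (U : Set G) := le_centralizer_comm inf_le_right
  have hprop : ∀ T : Subgroup G, T.Normal → T ≤ B → T ≠ B → T ≤ U := fun T hT hTB hne => by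
    refine le_inf hTB (le_centralizer_comm ?_)
    by_contra h
    have := hmin T ⟨hT, hTB.trans hBH, h⟩
    exact hne (eq_of_le_of_card_le hTB this)
  have hBp : IsPGroup p B := hH.to_le hBH
  have hnot : ¬ ⁅B, O⁆ ≤ U := by
    intro hle
    refine hBO ((closure_le _).2 fun g hg => mem_centralizer_iff.2 fun b hb => ?_)
    have hgO : g ∈ O := Transfer.mem_pResidual_of_coprime hg
    have hw : g * b * g⁻¹ * b⁻¹ ∈ U := by
      have := hle (commutator_mem_commutator hb hgO)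
      have h2 := U.inv_mem this
      rwa [commutatorElement_inv, commutatorElement_def] at h2
    set w := g * b * g⁻¹ * b⁻¹
    have hgw : g * w = w * g := mem_centralizer_iff.1 hw.2 g hgO
    have hn := conj_pow_eq (v := b) (a := g) (w := w) rfl hgw (orderOf g)
    rw [pow_orderOf_eq_one, one_mul, inv_one, mul_one, right_eq_mul] at hn
    obtain ⟨k, hk⟩ := hBp ⟨w, hw.1⟩
    have h3 := (pow_gcd_eq_one (a := w)).2 ⟨hn, congrArg Subtype.val hk⟩
    rw [Nat.coprime_iff_gcd_eq_one.1 (Nat.Coprime.pow_right k hg), pow_one] at h3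
    exact (mul_inv_eq_iff_eq_mul.1 (mul_inv_eq_one.1 h3)).symm
  have hBO' : ⁅B, O⁆ = B := by
    by_contra hne
    exact hnot (hprop _ inferInstance (commutator_le_left B O) hne)
  have hBne : B ≠ ⊥ := fun e => hnot (by rw [e, commutator_bot_left]; exact bot_le)
  have hBH' : ⁅B, H⁆ ≤ U := by
    refine hprop _ inferInstance (commutator_le_left B H) fun e => hBne ?_
    exact Coprime.eq_bot_of_le_commutator hBH hH.isNilpotent e.ge
  have hUB : U ≤ centralizer (B : Set G) := by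
    have h1 : ⁅⁅B, U⁆, O⁆ = ⊥ := commutator_eq_bot_iff_le_centralizer.2
      ((commutator_le_right B U).trans inf_le_right)
    have h2 : ⁅⁅U, O⁆, B⁆ = ⊥ := by
      rw [commutator_eq_bot_iff_le_centralizer.2 (inf_le_right : U ≤ centralizer (O : Set G)), commutator_bot_left]
    have h3 : ⁅⁅O, B⁆, U⁆ = ⊥ := commutator_commutator_eq_bot_of_rotate h1 h2
    rw [commutator_comm O B, hBO'] at h3
    exact le_centralizer_comm (commutator_eq_bot_iff_le_centralizer.1 h3)
  refine ⟨B, U, hBn, hUn, hBH, inf_le_left, hUO, hnot, hUB, hBH', fun x hx => ?_⟩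
  set f := QuotientGroup.mk' U
  set V := B.map f
  haveI hVn : V.Normal := hBn.map f (QuotientGroup.mk'_surjective U)
  have hVab : V ≤ centralizer (V : Set (G ⧸ U)) := by
    refine commutator_eq_bot_iff_le_centralizer.1 ?_
    rw [← map_commutator, Subgroup.map_eq_bot_iff, QuotientGroup.ker_mk']
    exact (commutator_mono le_rfl hBH).trans hBH'
  set T := B ⊓ (Cfsg.omegaOne p V).comap f
  have hΩn : (Cfsg.omegaOne p V).Normal := normalizer_eq_top_iff.1 (top_le_iff.1 fun g _ => by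
    rw [mem_normalizer_iff_map_eq, map_omegaOne _ (MulAut.conj g).injective.injOn,
      mem_normalizer_iff_map_eq.1 (le_normalizer_of_normal (K := ⊤) (mem_top g))])
  haveI : T.Normal := inferInstance
  have hT : T = B := by
    by_contra hne
    have hTU := hprop T inferInstance inf_le_left hne
    have hΩ : Cfsg.omegaOne p V = ⊥ := by
      refine le_bot_iff.1 fun y hy => ?_
      obtain ⟨b, hb, rfl⟩ := omegaOne_le V hy
      exact mem_bot.2 ((QuotientGroup.eq_one_iff b).2 (hTU ⟨hb, hy⟩))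
    refine omegaOne_ne_bot ?_ hΩ
    obtain ⟨n, hn⟩ := IsPGroup.iff_card.1 (hBp.map f)
    rw [hn]
    rcases Nat.eq_zero_or_pos n with h0 | h0
    · rw [h0, pow_zero, card_eq_one, Subgroup.map_eq_bot_iff, QuotientGroup.ker_mk'] at hn
      exact absurd ((commutator_le_left B O).trans hn) hnot
    · exact dvd_pow_self p h0.ne'
  have h1 := (omegaOne_elemAb (p := p) hVab).2 (f x) (hT.ge hx).2
  rw [← map_pow] at h1
  exact (QuotientGroup.eq_one_iff _).1 h1

/-- If `A` has the largest order among abelian subgroups of `S`, is normalising an abelian `M ≤ S` and `w ∈ M`,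
then every element of `[w, A]` is a commutator of `w` with an element of `A` up to an element of `A`. -/
theorem exists_commutator_mul_mem [Finite G] {S A M : Subgroup G} (hA : A ∈ maxIn abelian S) (hMS : M ≤ S)
    (hM : M ≤ centralizer (M : Set G)) (hAM : A ≤ normalizer (M : Set G)) {w : G} (hw : w ∈ M)
    {n : G} (hn : n ∈ Subgroup.closure {x : G | ∃ b ∈ A, x = ⁅b, w⁆}) :
    ∃ b ∈ A, ⁅b, w⁆⁻¹ * n ∈ A ⊓ M := by
  classical
  set N := Subgroup.closure {x : G | ∃ b ∈ A, x = ⁅b, w⁆}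
  have hcM : ∀ b ∈ A, ⁅b, w⁆ ∈ M := fun b hb => by
    rw [← commutatorElement_inv]; exact M.inv_mem (commutator_mem_left (hAM hb) hw)
  have hNM : N ≤ M := (closure_le _).2 (by rintro _ ⟨b, hb, rfl⟩; exact hcM b hb)
  have hAc := Subgroup.le_centralizer_iff_isMulCommutative.2 hA.2.1
  have hmul : ∀ b ∈ A, ∀ c ∈ A, ⁅b * c, w⁆ = b * ⁅c, w⁆ * b⁻¹ * ⁅b, w⁆ := fun b _ c _ => by
    simp only [commutatorElement_def]; group
  have hfix : ∀ b ∈ A, ∀ t ∈ A, b * t * b⁻¹ = t := fun b hb t ht => by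
    rw [(commute_of_le_centralizer hAc hb ht).eq, mul_inv_cancel_right]
  let A0 : Subgroup G :=
    { carrier := {b | b ∈ A ∧ ⁅b, w⁆ ∈ A}
      one_mem' := ⟨A.one_mem, by rw [commutatorElement_one_left]; exact A.one_mem⟩
      mul_mem' := fun {b c} hb hc => ⟨A.mul_mem hb.1 hc.1, by
        rw [hmul b hb.1 c hc.1, hfix b hb.1 _ hc.2]; exact A.mul_mem hc.2 hb.2⟩
      inv_mem' := fun {b} hb => ⟨A.inv_mem hb.1, by
        have h1 := hmul b⁻¹ (A.inv_mem hb.1) b hb.1
        rw [inv_mul_cancel, commutatorElement_one_left, hfix _ (A.inv_mem hb.1) _ hb.2] at h1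
        rw [eq_inv_of_mul_eq_one_right h1.symm]
        exact A.inv_mem hb.2⟩ }
  have hA0A : A0 ≤ A := fun b hb => hb.1
  have hA0N : N ≤ centralizer (A0 : Set G) := by
    refine (closure_le _).2 ?_
    rintro _ ⟨c, hc, rfl⟩
    refine mem_centralizer_iff.2 fun b hb => ?_
    obtain ⟨hbA, ht⟩ := hb
    set t := ⁅b, w⁆ with htdef
    have htM : t ∈ M := hcM b hbA
    have hbw : b * w * b⁻¹ = t * w := by rw [htdef, commutatorElement_def]; group
    have hcb : b * c = c * b := (commute_of_le_centralizer hAc hbA hc).eq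
    have key : b * ⁅c, w⁆ * b⁻¹ = ⁅c, w⁆ := by
      calc b * ⁅c, w⁆ * b⁻¹ = (b * c) * w * (b * c)⁻¹ * (b * w * b⁻¹)⁻¹ := by
            rw [commutatorElement_def]; group
        _ = c * (b * w * b⁻¹) * c⁻¹ * (b * w * b⁻¹)⁻¹ := by rw [hcb]; group
        _ = (c * t * c⁻¹) * (c * w * c⁻¹) * w⁻¹ * t⁻¹ := by rw [hbw]; group
        _ = t * ⁅c, w⁆ * t⁻¹ := by rw [hfix c hc t ht, commutatorElement_def]; group
        _ = ⁅c, w⁆ := by
          rw [(commute_of_le_centralizer hM htM (hcM c hc)).eq, mul_inv_cancel_right]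
    exact mul_inv_eq_iff_eq_mul.1 key
  have hQ : abelian (A0 ⊔ N) := by
    refine Subgroup.le_centralizer_iff_isMulCommutative.1 ?_
    rw [centralizer_sup]
    exact sup_le (le_inf (hA0A.trans (hAc.trans (centralizer_le hA0A))) (le_centralizer_comm hA0N))
      (le_inf hA0N (hNM.trans (hM.trans (centralizer_le hNM))))
  have h1 : Nat.card ↥(A0 ⊔ N) ≤ Nat.card A :=
    maxIn_card hA (sup_le (hA0A.trans hA.1) (hNM.trans hMS)) hQ
  have h2 := card_sup_mul_card_inf (H := A0) (K := N) (hA0N.trans (centralizer_le_normalizer _))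
  -- the map `b ↦ [b, w]` from `A / A0` to `N / (N ∩ A)`
  set D := (A ⊓ N).subgroupOf N
  let Φ : A ⧸ A0.subgroupOf A → N ⧸ D := fun q =>
    QuotientGroup.mk ⟨⁅(q.out : G), w⁆, Subgroup.subset_closure ⟨_, q.out.2, rfl⟩⟩
  have hΦ : Function.Injective Φ := by
    intro q q' h
    rw [← QuotientGroup.out_eq' q, ← QuotientGroup.out_eq' q', QuotientGroup.eq, mem_subgroupOf]
    have hd : (⁅(q.out : G), w⁆)⁻¹ * ⁅(q'.out : G), w⁆ ∈ A := (mem_subgroupOf.1 (QuotientGroup.eq.1 h)).1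
    set b := (q.out : G)
    set b' := (q'.out : G)
    show b⁻¹ * b' ∈ A0
    have hb : b ∈ A := q.out.2
    have hb' : b' ∈ A := q'.out.2
    refine ⟨A.mul_mem (A.inv_mem hb) hb', ?_⟩
    have hcomm := commute_of_le_centralizer hM (M.inv_mem (hcM b hb)) (hcM b' hb')
    have h3 : b * ⁅b⁻¹ * b', w⁆ * b⁻¹ = (⁅b, w⁆)⁻¹ * ⁅b', w⁆ := by
      rw [hcomm.eq]; simp only [commutatorElement_def]; group
    rw [← h3] at hd
    have := hfix b⁻¹ (A.inv_mem hb) _ hd
    rw [show b⁻¹ * (b * ⁅b⁻¹ * b', w⁆ * b⁻¹) * b⁻¹⁻¹ = ⁅b⁻¹ * b', w⁆ by group] at this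
    rw [this]; exact hd
  have hsurj : Function.Surjective Φ := by
    refine (hΦ.bijective_of_nat_card_le ?_).2
    have e1 := card_eq_card_quotient_mul_card_subgroup (A0.subgroupOf A)
    rw [Nat.card_congr (subgroupOfEquivOfLe hA0A).toEquiv] at e1
    have e2 := card_eq_card_quotient_mul_card_subgroup D
    rw [Nat.card_congr (subgroupOfEquivOfLe (inf_le_right : A ⊓ N ≤ N)).toEquiv] at e2
    have e3 : Nat.card ↥(A0 ⊓ N) ≤ Nat.card ↥(A ⊓ N) := PLocal.card_le_of_le (inf_le_inf_right _ hA0A)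
    refine Nat.le_of_mul_le_mul_right ?_ (Nat.mul_pos (Nat.card_pos (α := A0)) (Nat.card_pos (α := ↥(A ⊓ N))))
    calc Nat.card (N ⧸ D) * (Nat.card A0 * Nat.card ↥(A ⊓ N)) = Nat.card A0 * Nat.card N := by
          rw [e2]; ring
      _ = Nat.card ↥(A0 ⊔ N) * Nat.card ↥(A0 ⊓ N) := h2.symm
      _ ≤ Nat.card A * Nat.card ↥(A ⊓ N) := Nat.mul_le_mul h1 e3
      _ = _ := by rw [e1]; ring
  obtain ⟨q, hq⟩ := hsurj (QuotientGroup.mk ⟨n, hn⟩)
  refine ⟨q.out, q.out.2, ?_⟩
  have h := mem_subgroupOf.1 (QuotientGroup.eq.1 hq)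
  exact ⟨h.1, hNM h.2⟩

end Cfsg.Agent.JBound
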