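import Cfsg.Agent.Lib.JBound.Ring
import Cfsg.Agent.Lib.JBound.Basic

/-!
`J(S) ≤ O_p(G)` for `p ≥ 5` in a minimal group without normal `p`-complement (namespace `Cfsg.Agent.JBound`).

* `abelian_le_pCore`: abelian subgroups of largest order of `S` lie in `O_p(G)`
-/

set_option autoImplicit false
set_option maxHeartbeats 1600000

namespace Cfsg.Agent.JBound

open Subgroup PLocal
open scoped commutatorElement

universe u

variable {G : Type u} [Group G] {p : ℕ}

theorem abelian_le_pCore [Finite G] [Fact p.Prime] (h5 : 5 ≤ p) (S : Sylow p G)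
    (hr : Reduced p (S : Subgroup G)) {A : Subgroup G} (hA : A ∈ maxIn abelian (S : Subgroup G)) :
    A ≤ Cfsg.pCore p G := by
  classical
  have hp : p.Prime := Fact.out
  set H := Cfsg.pCore p G
  haveI : H.Normal := Cores.pCore_normal p G
  have hHp : IsPGroup p H := Cores.isPGroup_pCore p G
  have hHS : H ≤ (S : Subgroup G) := Cores.pCore_le_sylow S
  set O := Cfsg.pResidual p G
  haveI : O.Normal := Transfer.pResidual_normal
  have hOH : ¬ O ≤ centralizer (H : Set G) := fun h => by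
    refine hr.not_complement (Transfer.hasNormalPComplement_of_isPGroup fun g => ?_)
    obtain ⟨j, hj⟩ := Transfer.isPGroup_quotient_pResidual (G := G) (p := p) (QuotientGroup.mk g)
    rw [← QuotientGroup.mk_pow, QuotientGroup.eq_one_iff] at hj
    obtain ⟨i, hi⟩ := hHp ⟨g ^ p ^ j, hr.centralizer_le (h hj)⟩
    exact ⟨j + i, by rw [pow_add, pow_mul]; exact congrArg Subtype.val hi⟩
  obtain ⟨B, U, hBn, hUn, hBH, hUB, hOU, hBO, hUc, hBH', hpow⟩ := exists_factor hHp hOH
  obtain ⟨H₀, R, hH₀n, hRn, hH₀p, hab, hp', hq⟩ := hr.shape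
  have hOR : O ≤ R := Transfer.pResidual_le fun x => by
    obtain ⟨g, rfl⟩ := QuotientGroup.mk_surjective x
    obtain ⟨k, hk⟩ := hq g
    exact ⟨k, by rw [← QuotientGroup.mk_pow, QuotientGroup.eq_one_iff]; exact hk⟩
  have hH₀H : H₀ ≤ H := Cores.le_pCore hH₀n hH₀p
  -- the factor `V` as a module
  set f := QuotientGroup.mk' U
  set V := B.map f
  haveI hVn : V.Normal := hBn.map f (QuotientGroup.mk'_surjective U)
  have hfU : ∀ {x : G}, f x = 1 ↔ x ∈ U := fun {x} => QuotientGroup.eq_one_iff x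
  have hVc : ∀ x y : V, x * y = y * x := by
    intro x y
    obtain ⟨_, b, hb, rfl⟩ := x
    obtain ⟨_, c, hc, rfl⟩ := y
    refine Subtype.ext ?_
    show f b * f c = f c * f b
    rw [← map_mul, ← map_mul, ← mul_inv_eq_one, ← map_inv, ← map_mul, hfU]
    have := hBH' (commutator_mem_commutator hb (hBH hc))
    rw [commutatorElement_def] at this
    simpa [mul_assoc] using this
  letI : CommGroup V := { mul_comm := hVc }
  let W := Additive V
  have hW : ∀ x : W, p • x = 0 := fun x => by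
    obtain ⟨⟨_, b, hb, rfl⟩, rfl⟩ := Additive.ofMul.surjective x
    rw [← ofMul_pow]
    refine congrArg Additive.ofMul (Subtype.ext ?_) |>.trans ofMul_one
    rw [SubgroupClass.coe_pow, ← map_pow, OneMemClass.coe_one]
    exact hfU.2 (hpow b hb)
  let θ : G →* MulAut V := (MulAut.conjNormal : G ⧸ U →* MulAut V).comp f
  have hθ : ∀ (g : G) (x : V), ((θ g x : V) : G ⧸ U) = f g * x * (f g)⁻¹ := fun g x =>
    MulAut.conjNormal_apply _ _
  let ρ : G →* AddMonoid.End W :=
    { toFun := fun g => (θ g).toMonoidHom.toAdditive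
      map_one' := DFunLike.ext _ _ fun x => by rw [map_one]; rfl
      map_mul' := fun g g' => DFunLike.ext _ _ fun x => by rw [map_mul]; rfl }
  let L : G → W → Prop := fun w x => w ∈ B ∧ f w = ((Additive.toMul x : V) : G ⧸ U)
  have hLm : ∀ {w w' x x'}, L w x → L w' x' → L (w * w') (x + x') := fun h h' =>
    ⟨B.mul_mem h.1 h'.1, by rw [map_mul, h.2, h'.2]; rfl⟩
  have hLi : ∀ {w x}, L w x → L w⁻¹ (-x) := fun h => ⟨B.inv_mem h.1, by rw [map_inv, h.2]; rfl⟩
  have hLc : ∀ g {w x}, L w x → L (g * w * g⁻¹) (ρ g x) := fun g {w x} h =>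
    ⟨hBn.conj_mem w h.1 g, by rw [map_mul, map_mul, map_inv, h.2]; exact (hθ g _).symm⟩
  have hLu : ∀ {w x x'}, L w x → L w x' → x = x' := fun h h' =>
    Additive.toMul.injective (Subtype.ext (h.2.symm.trans h'.2))
  have hLn : ∀ {w x} (n : ℕ), L w x → L (w ^ n) (n • x) := fun {w x} n h => by
    induction n with
    | zero => exact ⟨B.pow_mem h.1 0, by rw [pow_zero, map_one, zero_nsmul]; rfl⟩
    | succ n ih => rw [pow_succ, succ_nsmul]; exact hLm ih h
  have hLex : ∀ x : W, ∃ w, L w x := fun x => by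
    obtain ⟨w, hw, e⟩ := (Additive.toMul x).2
    exact ⟨w, hw, e⟩
  have hkerH : ∀ g : G, ρ g = 1 → g ∈ H := by
    set T0 := (centralizer (V : Set (G ⧸ U))).comap f
    haveI : T0.Normal := inferInstance
    have hHT : H ≤ T0 := fun h hh => by
      refine mem_comap.2 (mem_centralizer_iff.2 ?_)
      rintro _ ⟨b, hb, rfl⟩
      rw [← map_mul, ← map_mul, ← mul_inv_eq_one, ← map_inv, ← map_mul, hfU]
      have := hBH' (commutator_mem_commutator hb hh)
      rw [commutatorElement_def] at this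
      simpa [mul_assoc] using this
    have hT : T0 ≤ H := by
      rcases hr.pResidual_minimal T0 inferInstance hHT with h | h
      · exact Cores.le_pCore inferInstance h
      · exfalso
        refine hBO (commutator_le.2 fun b hb o ho => hfU.1 ?_)
        rw [map_commutatorElement, commutatorElement_eq_one_iff_mul_comm]
        exact mem_centralizer_iff.1 (mem_comap.1 (h ho)) _ (mem_map_of_mem f hb)
    intro g hg
    refine hT (mem_comap.2 (mem_centralizer_iff.2 fun x hx => ?_))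
    have h1 : θ g ⟨x, hx⟩ = ⟨x, hx⟩ :=
      congrArg Additive.toMul (DFunLike.congr_fun hg (Additive.ofMul (⟨x, hx⟩ : V)))
    have h2 := congrArg Subtype.val h1
    rw [hθ] at h2
    exact (mul_inv_eq_iff_eq_mul.1 h2).symm
  have hH₀ρ : ∀ h ∈ H₀, ρ h = 1 := fun h hh => DFunLike.ext _ _ fun x => by
    obtain ⟨w, hw⟩ := hLex x
    refine hLu (hLc h hw) ?_
    refine ⟨hBn.conj_mem w hw.1 h, ?_⟩
    have := hBH' (commutator_mem_commutator hw.1 (hH₀H hh))
    show _ = ((Additive.toMul x : V) : G ⧸ U)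
    rw [← hw.2, ← mul_inv_eq_one, ← map_inv, ← map_mul, hfU]
    have h2 := U.inv_mem this
    rwa [commutatorElement_inv, commutatorElement_def] at h2
  haveI : Finite (MulAut V) := Finite.of_injective (fun e => (e : V → V)) DFunLike.coe_injective
  set N0 := Nat.card ↥(R.map θ)
  have hθρ : ∀ g g', θ g = θ g' → ρ g = ρ g' := fun g g' h => by
    show (θ g).toMonoidHom.toAdditive = (θ g').toMonoidHom.toAdditive
    rw [h]
  have hρθ : ∀ g g', ρ g = ρ g' → θ g = θ g' := fun g g' h => MulEquiv.ext fun x =>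
    congrArg Additive.toMul (DFunLike.congr_fun h (Additive.ofMul x))
  have hN0p : N0.Coprime p := by
    rw [Nat.coprime_comm, hp.coprime_iff_not_dvd]
    intro hd
    obtain ⟨⟨_, r, hr', rfl⟩, hord⟩ := exists_prime_orderOf_dvd_card' p hd
    obtain ⟨n, hn, hrn⟩ := hp' r hr'
    rw [← Subgroup.orderOf_coe] at hord
    have h1 : θ (r ^ n) = 1 := by rw [← map_one θ]; exact hρθ _ _ ((hH₀ρ _ hrn).trans (map_one ρ).symm)
    have := orderOf_dvd_of_pow_eq_one (x := θ r) ((map_pow θ r n).symm.trans h1)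
    rw [hord] at this
    exact hp.one_lt.ne' (Nat.eq_one_of_dvd_coprimes hn.symm dvd_rfl this)
  have hρN : ∀ r ∈ R, ρ r ^ N0 = 1 := fun r hr' => by
    rw [← map_pow, ← map_one ρ]
    refine hθρ _ _ ?_
    rw [map_pow, map_one]
    exact congrArg Subtype.val (pow_card_eq_one' (x := (⟨θ r, mem_map_of_mem θ hr'⟩ : ↥(R.map θ))))
  have hrep : ∀ r ∈ R, ∃ k ∈ R, k ∈ O ∧ ρ k = ρ r := fun r hr' => by
    obtain ⟨a, m, hm, ho⟩ := Nat.exists_eq_pow_mul_and_not_dvd (orderOf_pos r).ne' p hp.ne_one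
    have hO' : r ^ p ^ a ∈ O := Transfer.mem_pResidual_of_coprime (Nat.Coprime.coprime_dvd_left
      (orderOf_dvd_of_pow_eq_one (by rw [← pow_mul, ← ho, pow_orderOf_eq_one]))
      ((hp.coprime_iff_not_dvd).2 hm).symm)
    have hc : (p ^ a).Coprime (orderOf (θ r)) := (Nat.Coprime.pow_left a hN0p.symm).coprime_dvd_right (by
      have := orderOf_dvd_natCard (⟨θ r, mem_map_of_mem θ hr'⟩ : ↥(R.map θ))
      rwa [← Subgroup.orderOf_coe] at this)
    obtain ⟨t, ht⟩ := exists_pow_eq_self_of_coprime hc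
    refine ⟨(r ^ p ^ a) ^ t, R.pow_mem (R.pow_mem hr' _) _, O.pow_mem hO' _, hθρ _ _ ?_⟩
    rw [map_pow, map_pow, ht]
  have hρcomm : ∀ r ∈ R, ∀ r' ∈ R, ρ r * ρ r' = ρ r' * ρ r := fun r h1 r' h2 => by
    rw [← map_mul, ← map_mul, show r * r' = ⁅r, r'⁆ * (r' * r) by rw [commutatorElement_def]; group,
      map_mul ρ ⁅r, r'⁆, hH₀ρ _ (hab r h1 r' h2), one_mul]
  have hBne : ∃ x : W, x ≠ 0 := by
    by_contra hno
    push Not at hno
    refine hBO (le_trans (commutator_le_left B O) fun b hb => hfU.1 ?_)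
    exact congrArg (fun x : V => (x : G ⧸ U)) (congrArg Additive.toMul
      (hno (Additive.ofMul (⟨f b, mem_map_of_mem f hb⟩ : V))))
  have hcastW : ∀ x : W, x ≠ 0 → ∀ n : ℕ, n • x = 0 ↔ p ∣ n := fun x hx n => by
    rw [← addOrderOf_dvd_iff_nsmul_eq_zero, addOrderOf_eq_prime (hW x) hx]
  haveI : CharP (AddMonoid.End W) p := by
    obtain ⟨x, hx⟩ := hBne
    refine ⟨fun n => ⟨fun h => (hcastW x hx n).1 ?_, fun h => DFunLike.ext _ _ fun y => ?_⟩⟩
    · rw [← AddMonoid.End.natCast_apply, h]; rfl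
    · obtain ⟨k, rfl⟩ := h
      rw [AddMonoid.End.natCast_apply, mul_comm, mul_nsmul', hW, smul_zero]
      rfl
  -- the commutative ring generated by `R`
  set Sg : Set (AddMonoid.End W) := ρ '' (R : Set G)
  set E := Subring.closure Sg
  letI : CommRing E :=
    { (inferInstance : Ring E) with
      mul_comm := fun x y => Subtype.ext (by
        have h1 : E ≤ Subring.centralizer Sg := Subring.closure_le.2 (by
          rintro _ ⟨r, hr', rfl⟩
          refine Subring.mem_centralizer_iff.2 ?_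
          rintro _ ⟨r', hr'', rfl⟩
          exact hρcomm r' hr'' r hr')
        have h2 : E ≤ Subring.centralizer (E : Set (AddMonoid.End W)) := Subring.closure_le.2 (by
          intro s hs
          exact Subring.mem_centralizer_iff.2 fun t ht => (Subring.mem_centralizer_iff.1 (h1 ht) s hs).symm)
        exact Subring.mem_centralizer_iff.1 (h2 y.2) x x.2) }
  haveI : Nontrivial (AddMonoid.End W) := CharP.nontrivial_of_char_ne_one hp.ne_one
  haveI : CharP E p := CharP.subring (AddMonoid.End W) p E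
  let e : R →* E :=
    { toFun := fun r => ⟨ρ r, Subring.subset_closure ⟨r, r.2, rfl⟩⟩
      map_one' := Subtype.ext (map_one ρ)
      map_mul' := fun r r' => Subtype.ext (map_mul ρ (r : G) r') }
  have hspanE : ∀ s : E, s ∈ AddSubgroup.closure (Set.range e) := by
    set AS := AddSubgroup.closure (Set.range e)
    have hmul : ∀ x ∈ AS, ∀ y ∈ AS, x * y ∈ AS := by
      intro x hx y hy
      induction hx using AddSubgroup.closure_induction with
      | mem x hx =>
        induction hy using AddSubgroup.closure_induction with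
        | mem y hy =>
          obtain ⟨r, rfl⟩ := hx
          obtain ⟨r', rfl⟩ := hy
          exact AddSubgroup.subset_closure ⟨r * r', map_mul e r r'⟩
        | zero => rw [mul_zero]; exact AS.zero_mem
        | add a b _ _ iha ihb => rw [mul_add]; exact AS.add_mem iha ihb
        | neg a _ iha => rw [mul_neg]; exact AS.neg_mem iha
      | zero => rw [zero_mul]; exact AS.zero_mem
      | add a b _ _ iha ihb => rw [add_mul]; exact AS.add_mem iha ihb
      | neg a _ iha => rw [neg_mul]; exact AS.neg_mem iha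
    rintro ⟨s, hs⟩
    induction hs using Subring.closure_induction with
    | mem x hx => obtain ⟨r, hr', rfl⟩ := hx; exact AddSubgroup.subset_closure ⟨⟨r, hr'⟩, rfl⟩
    | zero => exact AS.zero_mem
    | one => exact AddSubgroup.subset_closure ⟨1, map_one e⟩
    | add x y _ _ ihx ihy => exact AS.add_mem ihx ihy
    | neg x _ ih => exact AS.neg_mem ih
    | mul x y _ _ ihx ihy => exact hmul _ ihx _ ihy
  -- a Frobenius power is the identity
  set m := N0.totient
  have hm : 0 < m := Nat.totient_pos.2 Nat.card_pos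
  set q := p ^ m
  have hq1 : 1 < q := Nat.one_lt_pow hm.ne' hp.one_lt
  have hfrob : ∀ s : E, s ^ q = s := fun s => by
    induction hspanE s using AddSubgroup.closure_induction with
    | mem x hx =>
      obtain ⟨r, rfl⟩ := hx
      have h1 : e r ^ N0 = 1 := Subtype.ext (by rw [Subring.coe_pow]; exact hρN r r.2)
      have h2 := Nat.ModEq.pow_totient hN0p.symm
      obtain ⟨c, hc⟩ := (Nat.modEq_iff_dvd' hq1.le).1 h2.symm
      rw [show q = N0 * c + 1 by omega, pow_succ, pow_mul, h1, one_pow, one_mul]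
    | zero => exact zero_pow (by omega)
    | add x y _ _ ihx ihy => rw [add_pow_char_pow, ihx, ihy]
    | neg x _ ih => rw [Odd.neg_pow ((hp.odd_of_ne_two (by omega)).pow), ih]
  -- conjugation
  let cnj : G → (AddMonoid.End W →+* AddMonoid.End W) := fun g =>
    { toFun := fun s => ρ g * s * ρ g⁻¹
      map_one' := by rw [mul_one, ← map_mul, mul_inv_cancel, map_one]
      map_mul' := fun s t => by
        have : ρ g⁻¹ * ρ g = 1 := by rw [← map_mul, inv_mul_cancel, map_one]
        simp only [mul_assoc]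
        rw [← mul_assoc (ρ g⁻¹) (ρ g), this, one_mul]
      map_zero' := by rw [mul_zero, zero_mul]
      map_add' := fun s t => by rw [mul_add, add_mul] }
  have hcnj : ∀ g r, cnj g (ρ r) = ρ (g * r * g⁻¹) := fun g r => by
    show ρ g * ρ r * ρ g⁻¹ = _
    rw [map_mul, map_mul]
  have hcE : ∀ g, E ≤ E.comap (cnj g) := fun g => Subring.closure_le.2 (by
    rintro _ ⟨r, hr', rfl⟩
    show cnj g (ρ r) ∈ E
    rw [hcnj]
    exact Subring.subset_closure ⟨_, hRn.conj_mem r hr' g, rfl⟩)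
  let σ₀ : ↥A → (E →+* E) := fun a => ((cnj a).comp E.subtype).codRestrict E fun s => hcE a s.2
  have hσ₀ : ∀ a s, ((σ₀ a s : E) : AddMonoid.End W) = ρ (a : G) * s * ρ (a : G)⁻¹ := fun _ _ => rfl
  have hσe : ∀ a r, σ₀ a (e r) = e ⟨(a : G) * r * (a : G)⁻¹, hRn.conj_mem _ r.2 _⟩ := fun a r =>
    Subtype.ext (hcnj a r)
  have hAp : IsPGroup p A := S.2.to_le hA.1
  have hAc : ∀ a b : A, a * b = b * a := fun a b => hA.2.1.1.1 a b
  have hσv : ∀ (a : A) (s : E) (x : W), ρ (a : G) ((s : AddMonoid.End W) x) =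
      ((σ₀ a s : E) : AddMonoid.End W) (ρ (a : G) x) := fun a s x => by
    rw [hσ₀]
    show _ = ρ (a : G) ((s : AddMonoid.End W) ((ρ (a : G)⁻¹ * ρ (a : G)) x))
    rw [← map_mul, inv_mul_cancel, map_one]
    rfl
  by_cases hfix : ∃ v : W, (∀ b : A, ρ (b : G) v = v) ∧
      ∃ (a : A) (s : E), ((σ₀ a s : E) : AddMonoid.End W) v ≠ (s : AddMonoid.End W) v
  swap
  · -- everything centralises `R` modulo `H`
    push Not at hfix
    let J : Ideal E :=
      { carrier := {s | ∀ v : W, (∀ b : A, ρ (b : G) v = v) → (s : AddMonoid.End W) v = 0}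
        zero_mem' := fun v _ => rfl
        add_mem' := fun {s t} hs ht v hv => by
          show (s : AddMonoid.End W) v + (t : AddMonoid.End W) v = 0
          rw [hs v hv, ht v hv, add_zero]
        smul_mem' := fun c s hs v hv => by
          show (c : AddMonoid.End W) ((s : AddMonoid.End W) v) = 0
          rw [hs v hv, map_zero] }
    have hσJ : ∀ a, ∀ s ∈ J, σ₀ a s ∈ J := fun a s hs v hv => by
      have := hσv a s v
      rw [hs v hv, map_zero, hv a] at this
      exact this.symm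
    haveI : Finite (AddMonoid.End W) := Finite.of_injective (fun e => (e : W → W)) DFunLike.coe_injective
    have hJ : ∀ s ∈ J, s = 0 := by
      have hfin := Fintype.ofFinite E
      set Js : Finset E := Finset.univ.filter fun s => s ∈ J
      set ep : E := 1 - ∏ s ∈ Js, (1 - s ^ (q - 1))
      have hep : ep ∈ J := by
        rw [← Ideal.Quotient.eq_zero_iff_mem]
        simp only [ep, map_sub, map_one, map_prod, map_pow]
        rw [Finset.prod_eq_one fun s hs => ?_, sub_self]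
        rw [Ideal.Quotient.eq_zero_iff_mem.2 (Finset.mem_filter.1 hs).2, zero_pow (by omega), sub_zero]
      have hes : ∀ s ∈ J, ep * s = s := fun s hs => by
        have hz : s * (1 - s ^ (q - 1)) = 0 := by
          rw [mul_sub, mul_one, ← pow_succ', Nat.sub_add_cancel hq1.le, hfrob, sub_self]
        have : s * ∏ t ∈ Js, (1 - t ^ (q - 1)) = 0 := by
          rw [← Finset.mul_prod_erase Js _ (Finset.mem_filter.2 ⟨Finset.mem_univ s, hs⟩), ← mul_assoc, hz,
            zero_mul]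
        show (1 - _) * s = s
        rw [sub_mul, one_mul, mul_comm, this, sub_zero]
      intro s hs
      by_contra hs0
      set JW := AddSubgroup.closure {x : W | ∃ t ∈ J, ∃ u, (t : AddMonoid.End W) u = x}
      have hJWfix : ∀ x ∈ JW, (ep : AddMonoid.End W) x = x := fun x hx => by
        induction hx using AddSubgroup.closure_induction with
        | mem x hx =>
          obtain ⟨t, ht, u, rfl⟩ := hx
          exact DFunLike.congr_fun (congrArg Subtype.val (hes t ht)) u
        | zero => exact map_zero _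
        | add a b _ _ iha ihb => rw [map_add, iha, ihb]
        | neg a _ iha => rw [map_neg, iha]
      have hJWinv : ∀ (a : A), ∀ x ∈ JW, ρ (a : G) x ∈ JW := fun a x hx => by
        induction hx using AddSubgroup.closure_induction with
        | mem x hx =>
          obtain ⟨t, ht, u, rfl⟩ := hx
          exact AddSubgroup.subset_closure ⟨_, hσJ a t ht, _, (hσv a t u).symm⟩
        | zero => rw [map_zero]; exact JW.zero_mem
        | add a b _ _ iha ihb => rw [map_add]; exact JW.add_mem iha ihb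
        | neg a _ iha => rw [map_neg]; exact JW.neg_mem iha
      letI : MulAction A JW :=
        { smul := fun a x => ⟨ρ (a : G) x, hJWinv a x x.2⟩
          one_smul := fun x => Subtype.ext (by show ρ 1 (x : W) = x; rw [map_one]; rfl)
          mul_smul := fun a b x => Subtype.ext (by
            show ρ ((a : G) * b) (x : W) = ρ (a : G) (ρ (b : G) x); rw [map_mul]; rfl) }
      obtain ⟨u, hu⟩ : ∃ u, (s : AddMonoid.End W) u ≠ 0 := by
        by_contra h
        push Not at h
        exact hs0 (Subtype.ext (DFunLike.ext _ _ h))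
      let x0 : JW := ⟨_, AddSubgroup.subset_closure ⟨s, hs, u, rfl⟩⟩
      have hd : p ∣ Nat.card JW := by
        have h0 : x0 ≠ 0 := fun h => hu (congrArg Subtype.val h)
        have : addOrderOf x0 = p := addOrderOf_eq_prime (Subtype.ext (hW _)) h0
        exact this ▸ addOrderOf_dvd_natCard x0
      obtain ⟨w, hw, hw0⟩ := hAp.exists_fixed_point_of_prime_dvd_card_of_fixed_point (↥JW) hd
        (a := (0 : JW)) (fun a => Subtype.ext (map_zero _))
      apply hw0
      refine Subtype.ext ?_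
      rw [← hJWfix w w.2]
      exact (hep _ fun b => congrArg Subtype.val (hw b)).symm
    set qH := QuotientGroup.mk' H
    haveI : (R.map qH).Normal := hRn.map qH (QuotientGroup.mk'_surjective H)
    set T := (centralizer (R.map qH : Set (G ⧸ H))).comap qH
    haveI : T.Normal := inferInstance
    have hAT : A ≤ T := fun a ha => by
      refine mem_comap.2 (mem_centralizer_iff.2 ?_)
      rintro _ ⟨r, hr', rfl⟩
      have h1 := hJ _ (show σ₀ ⟨a, ha⟩ (e ⟨r, hr'⟩) - e ⟨r, hr'⟩ ∈ J from fun v hv => by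
        show ((σ₀ ⟨a, ha⟩ (e ⟨r, hr'⟩) : E) : AddMonoid.End W) v - ρ r v = 0
        rw [sub_eq_zero]
        exact hfix v hv ⟨a, ha⟩ (e ⟨r, hr'⟩))
      rw [sub_eq_zero, hσe] at h1
      have h2 : ρ (a * r * a⁻¹) = ρ r := congrArg Subtype.val h1
      have h3 : ρ (a * r * a⁻¹ * r⁻¹) = 1 := by rw [map_mul, h2, ← map_mul, mul_inv_cancel, map_one]
      rw [← map_mul, ← map_mul]
      refine (QuotientGroup.eq.2 ?_).symm
      have h4 := H.inv_mem (hkerH _ h3)
      have h5 := (inferInstance : H.Normal).conj_mem _ h4 (r⁻¹ * a⁻¹ * r * a)⁻¹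
      have h6 := (inferInstance : H.Normal).conj_mem _ h4 (r * a)⁻¹
      simpa [mul_assoc] using h6
    refine le_trans (le_inf hAT hA.1) (Cores.le_pCore ?_ S.2.to_inf_right)
    refine normalizer_eq_top_iff.1 (top_le_iff.1 ?_)
    rw [← Transfer.sylow_sup_eq_top S]
    refine sup_le (Subgroup.le_normalizer_iff.2 fun x hx t ht =>
      ⟨(inferInstance : T.Normal).conj_mem t ht.1 x, (S : Subgroup G).mul_mem ((S : Subgroup G).mul_mem hx ht.2) ((S : Subgroup G).inv_mem hx)⟩) ?_
    refine hOR.trans (Subgroup.le_normalizer_iff.2 fun r hr' t ht =>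
      ⟨(inferInstance : T.Normal).conj_mem t ht.1 r, ?_⟩)
    have h1 := mem_centralizer_iff.1 (mem_comap.1 ht.1) _ (mem_map_of_mem qH hr')
    have h2 : r * t * r⁻¹ * t⁻¹ ∈ H := by
      rw [← QuotientGroup.eq_one_iff]
      show qH (r * t * r⁻¹ * t⁻¹) = 1
      rw [map_mul, map_mul, map_mul, map_inv, map_inv, h1]
      group
    have := (S : Subgroup G).mul_mem (hHS h2) ht.2
    rwa [inv_mul_cancel_right] at this
  -- the main case
  exfalso
  obtain ⟨v, hv, a₀, s₀, hs₀⟩ := hfix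
  have hv0 : v ≠ 0 := fun h => hs₀ (by rw [h, map_zero, map_zero])
  let I : Ideal E :=
    { carrier := {s | (s : AddMonoid.End W) v = 0}
      zero_mem' := rfl
      add_mem' := fun {s t} hs ht => by
        show (s : AddMonoid.End W) v + (t : AddMonoid.End W) v = 0
        rw [show (s : AddMonoid.End W) v = 0 from hs, show (t : AddMonoid.End W) v = 0 from ht, add_zero]
      smul_mem' := fun c s hs => by
        show (c : AddMonoid.End W) ((s : AddMonoid.End W) v) = 0
        rw [show (s : AddMonoid.End W) v = 0 from hs, map_zero] }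
  let mk := Ideal.Quotient.mk I
  haveI : CharP (E ⧸ I) p := ⟨fun n => by
    rw [← map_natCast mk, Ideal.Quotient.eq_zero_iff_mem, ← hcastW v hv0 n, ← AddMonoid.End.natCast_apply]
    exact Iff.rfl⟩
  haveI : IsReduced (E ⧸ I) := ⟨fun x ⟨n, hn⟩ => by
    have h1 : ∀ k, x ^ q ^ k = x := by
      intro k
      induction k with
      | zero => rw [pow_zero, pow_one]
      | succ k ih =>
        obtain ⟨s, rfl⟩ := Ideal.Quotient.mk_surjective x
        rw [pow_succ, pow_mul, ih, ← map_pow, hfrob]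
    rw [← h1 n, pow_eq_zero_of_le (Nat.lt_pow_self hq1).le hn]⟩
  let ev : E ⧸ I → W := fun z => ((Quotient.out z : E) : AddMonoid.End W) v
  have hev : ∀ s : E, ev (mk s) = (s : AddMonoid.End W) v := fun s => by
    have h : (Quotient.out (mk s) : E) - s ∈ I := Ideal.Quotient.eq.1 (Quotient.out_eq _)
    exact sub_eq_zero.1 h
  have hev_inj : Function.Injective ev := fun x y h => by
    obtain ⟨s, rfl⟩ := Ideal.Quotient.mk_surjective x
    obtain ⟨t, rfl⟩ := Ideal.Quotient.mk_surjective y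
    rw [hev, hev] at h
    exact Ideal.Quotient.eq.2 (sub_eq_zero.2 h)
  have hev_add : ∀ x y, ev (x + y) = ev x + ev y := fun x y => by
    obtain ⟨s, rfl⟩ := Ideal.Quotient.mk_surjective x
    obtain ⟨t, rfl⟩ := Ideal.Quotient.mk_surjective y
    rw [← map_add, hev, hev, hev]
    rfl
  let evh : E ⧸ I →+ W := AddMonoidHom.mk' ev hev_add
  have hσI : ∀ a : A, I ≤ I.comap (σ₀ a) := fun a s hs => by
    have := hσv a s v
    rw [show (s : AddMonoid.End W) v = 0 from hs, map_zero, hv a] at this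
    exact this.symm
  let σ : A →* (E ⧸ I →+* E ⧸ I) :=
    { toFun := fun a => Ideal.quotientMap I (σ₀ a) (hσI a)
      map_one' := Ideal.Quotient.ringHom_ext (RingHom.ext fun s => by
        show mk (σ₀ 1 s) = mk s
        congr 1
        refine Subtype.ext ?_
        rw [hσ₀, OneMemClass.coe_one, inv_one, map_one, one_mul, mul_one])
      map_mul' := fun a b => Ideal.Quotient.ringHom_ext (RingHom.ext fun s => by
        show mk (σ₀ (a * b) s) = mk (σ₀ a (σ₀ b s))
        congr 1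
        refine Subtype.ext ?_
        rw [hσ₀, hσ₀, hσ₀, Subgroup.coe_mul, mul_inv_rev, map_mul, map_mul]
        simp only [mul_assoc]) }
  have hevσ : ∀ (a : A) z, ρ (a : G) (evh z) = evh (σ a z) := fun a z => by
    obtain ⟨s, rfl⟩ := Ideal.Quotient.mk_surjective z
    show ρ (a : G) (ev (mk s)) = ev (mk (σ₀ a s))
    rw [hev, hev, hσv, hv a]
  let sym : R → E ⧸ I := fun r => mk (e r + e r⁻¹)
  let asy : R → E ⧸ I := fun r => mk (e r - e r⁻¹)
  set P := AddSubgroup.closure (Set.range sym)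
  set N := AddSubgroup.closure (Set.range asy)
  have hee : ∀ r r' : R, e r * e r' = e (r * r') := fun r r' => (map_mul e r r').symm
  have heinv : ∀ r r' : R, e (r * r')⁻¹ = e r⁻¹ * e r'⁻¹ := fun r r' => by
    rw [mul_inv_rev, map_mul, mul_comm]
  have hss : ∀ r r', sym r * sym r' = sym (r * r') + sym (r * r'⁻¹) := fun r r' => by
    simp only [sym, ← map_mul, ← map_add]
    congr 1
    rw [heinv, heinv, inv_inv, ← hee, ← hee]
    ring
  have haa : ∀ r r', asy r * asy r' = sym (r * r') - sym (r * r'⁻¹) := fun r r' => by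
    simp only [sym, asy, ← map_mul, ← map_sub]
    congr 1
    rw [heinv, heinv, inv_inv, ← hee, ← hee]
    ring
  have hclmul : ∀ (Z : Set (E ⧸ I)), (∀ x ∈ Z, ∀ y ∈ Z, x * y ∈ P) →
      ∀ x ∈ AddSubgroup.closure Z, ∀ y ∈ AddSubgroup.closure Z, x * y ∈ P := by
    intro Z hZ x hx y hy
    induction hx using AddSubgroup.closure_induction with
    | mem x hx =>
      induction hy using AddSubgroup.closure_induction with
      | mem y hy => exact hZ x hx y hy
      | zero => rw [mul_zero]; exact P.zero_mem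
      | add a b _ _ iha ihb => rw [mul_add]; exact P.add_mem iha ihb
      | neg a _ iha => rw [mul_neg]; exact P.neg_mem iha
    | zero => rw [zero_mul]; exact P.zero_mem
    | add a b _ _ iha ihb => rw [add_mul]; exact P.add_mem iha ihb
    | neg a _ iha => rw [neg_mul]; exact P.neg_mem iha
  have hPP : ∀ x ∈ P, ∀ y ∈ P, x * y ∈ P := hclmul _ (by
    rintro _ ⟨r, rfl⟩ _ ⟨r', rfl⟩
    rw [hss]
    exact P.add_mem (AddSubgroup.subset_closure ⟨_, rfl⟩) (AddSubgroup.subset_closure ⟨_, rfl⟩))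
  have hNN : ∀ x ∈ N, ∀ y ∈ N, x * y ∈ P := hclmul _ (by
    rintro _ ⟨r, rfl⟩ _ ⟨r', rfl⟩
    rw [haa]
    exact P.sub_mem (AddSubgroup.subset_closure ⟨_, rfl⟩) (AddSubgroup.subset_closure ⟨_, rfl⟩))
  have hσcl : ∀ (g : R → E ⧸ I), (∀ a r, ∃ r', σ a (g r) = g r') → ∀ a,
      ∀ x ∈ AddSubgroup.closure (Set.range g), σ a x ∈ AddSubgroup.closure (Set.range g) := by
    intro g hg a x hx
    induction hx using AddSubgroup.closure_induction with
    | mem x hx =>
      obtain ⟨r, rfl⟩ := hx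
      obtain ⟨r', hr'⟩ := hg a r
      exact hr' ▸ AddSubgroup.subset_closure ⟨r', rfl⟩
    | zero => rw [map_zero]; exact zero_mem _
    | add x y _ _ ihx ihy => rw [map_add]; exact add_mem ihx ihy
    | neg x _ ih => rw [map_neg]; exact neg_mem ih
  have hσr : ∀ (a : A) (r : R), ∃ r', σ₀ a (e r) = e r' ∧ σ₀ a (e r⁻¹) = e r'⁻¹ := fun a r =>
    ⟨⟨(a : G) * r * (a : G)⁻¹, hRn.conj_mem _ r.2 _⟩, hσe a r, by
      rw [hσe]; congr 1; exact Subtype.ext (conj_inv).symm⟩
  have hσP := hσcl sym fun a r => by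
    obtain ⟨r', h1, h2⟩ := hσr a r
    refine ⟨r', ?_⟩
    show mk (σ₀ a (e r + e r⁻¹)) = mk _
    rw [map_add, h1, h2]
  have hσN := hσcl asy fun a r => by
    obtain ⟨r', h1, h2⟩ := hσr a r
    refine ⟨r', ?_⟩
    show mk (σ₀ a (e r - e r⁻¹)) = mk _
    rw [map_sub, h1, h2]
  have hspan : ∀ z : E ⧸ I, ∃ x ∈ P, ∃ y ∈ N, z = x + y := fun z => by
    obtain ⟨s, rfl⟩ := Ideal.Quotient.mk_surjective z
    induction hspanE s using AddSubgroup.closure_induction with
    | mem x hx =>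
      obtain ⟨r, rfl⟩ := hx
      obtain ⟨h, hh⟩ := hp.odd_of_ne_two (by omega)
      refine ⟨(h + 1) • sym r, P.nsmul_mem (AddSubgroup.subset_closure ⟨r, rfl⟩) _,
        (h + 1) • asy r, N.nsmul_mem (AddSubgroup.subset_closure ⟨r, rfl⟩) _, ?_⟩
      simp only [sym, asy, map_add, map_sub, nsmul_eq_mul]
      have h0 : ((p : ℕ) : E ⧸ I) = 0 := CharP.cast_eq_zero _ p
      rw [hh] at h0
      push_cast at h0 ⊢
      linear_combination -(mk (e r)) * h0
    | zero => exact ⟨0, P.zero_mem, 0, N.zero_mem, by rw [map_zero, add_zero]⟩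
    | add s t _ _ ihs iht =>
      obtain ⟨x, hx, y, hy, e1⟩ := ihs
      obtain ⟨x', hx', y', hy', e2⟩ := iht
      exact ⟨x + x', P.add_mem hx hx', y + y', N.add_mem hy hy', by rw [map_add, e1, e2]; abel⟩
    | neg s _ ih =>
      obtain ⟨x, hx, y, hy, e1⟩ := ih
      exact ⟨-x, P.neg_mem hx, -y, N.neg_mem hy, by rw [map_neg, e1]; abel⟩
  obtain ⟨y, hyP, a, hcard, hd3, hd4⟩ := exists_cubic h5 hAp hAc σ P N hPP hNN hσP hσN hspan
    ⟨a₀, mk s₀, fun h => hs₀ (by
      have h1 : mk (σ₀ a₀ s₀) = mk s₀ := h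
      rw [← hev, ← hev, h1])⟩
  -- the abelian subgroup
  obtain ⟨z, hz⟩ := hLex v
  set K : Subgroup G := R ⊓ O
  let gen : G → G := fun k => k * z * k⁻¹ * (k⁻¹ * z * k)
  set M := U ⊔ Subgroup.closure (gen '' (K : Set G))
  have hgenB : ∀ k, gen k ∈ B := fun k =>
    B.mul_mem (hBn.conj_mem z hz.1 k) (by simpa using hBn.conj_mem z hz.1 k⁻¹)
  have hMB : M ≤ B := sup_le hUB ((closure_le _).2 (by rintro _ ⟨k, -, rfl⟩; exact hgenB k))
  have hUcom : ∀ {u b : G}, u ∈ U → b ∈ B → Commute u b := fun hu hb => commute_of_le_centralizer hUc hu hb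
  have hOU' : ∀ {o u : G}, o ∈ O → u ∈ U → o * u * o⁻¹ = u := fun {o u} ho hu => by
    rw [(commute_of_le_centralizer hOU ho hu).eq, mul_inv_cancel_right]
  have hBU : ∀ {x y : G}, x ∈ B → y ∈ B → ⁅x, y⁆ ∈ U := fun hx hy =>
    hBH' (commutator_mem_commutator hx (hBH hy))
  have hgc : ∀ k ∈ K, ∀ l ∈ K, Commute (gen k) (gen l) := by
    intro k hk l hl
    let F : G → G := fun m => ⁅z, m * z * m⁻¹⁆
    have hFU : ∀ m, F m ∈ U := fun m => hBU hz.1 (hBn.conj_mem z hz.1 m)
    have hF1 : ∀ m m', ρ m = ρ m' → F m = F m' := fun m m' h => by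
      have h1 : (m' * z * m'⁻¹)⁻¹ * (m * z * m⁻¹) ∈ U := by
        rw [← hfU, map_mul, map_inv, (hLc m' hz).2, (hLc m hz).2, h, inv_mul_cancel]
      let u := (m' * z * m'⁻¹)⁻¹ * (m * z * m⁻¹)
      have e1 : m * z * m⁻¹ = m' * z * m'⁻¹ * u := by simp only [u]; group
      have c1 : u * z⁻¹ * u⁻¹ = z⁻¹ := by rw [(hUcom h1 (B.inv_mem hz.1)).eq, mul_inv_cancel_right]
      show ⁅z, m * z * m⁻¹⁆ = ⁅z, m' * z * m'⁻¹⁆
      rw [e1, commutatorElement_def, commutatorElement_def]
      calc z * (m' * z * m'⁻¹ * u) * z⁻¹ * (m' * z * m'⁻¹ * u)⁻¹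
          = z * (m' * z * m'⁻¹) * (u * z⁻¹ * u⁻¹) * (m' * z * m'⁻¹)⁻¹ := by group
        _ = _ := by rw [c1]
    have hF2 : ∀ m ∈ O, F m⁻¹ = (F m)⁻¹ := fun m hm => by
      have h1 := hOU' (O.inv_mem hm) (hFU m)
      show ⁅z, m⁻¹ * z * m⁻¹⁻¹⁆ = _
      rw [← h1]
      show _ = (m⁻¹ * ⁅z, m * z * m⁻¹⁆ * m⁻¹⁻¹)⁻¹
      simp only [commutatorElement_def]
      group
    have hconj : ∀ i ∈ O, ∀ j, ⁅i * z * i⁻¹, j * z * j⁻¹⁆ = F (i⁻¹ * j) := fun i hi j => by
      rw [← hOU' hi (hFU (i⁻¹ * j))]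
      simp only [F, commutatorElement_def]
      group
    have hbil : ∀ x y w, x ∈ B → y ∈ B → w ∈ B → ⁅x * y, w⁆ = ⁅x, w⁆ * ⁅y, w⁆ ∧
        ⁅w, x * y⁆ = ⁅w, x⁆ * ⁅w, y⁆ := fun x y w hx hy hw => by
      have e1 : ⁅x * y, w⁆ = (x * ⁅y, w⁆ * x⁻¹) * ⁅x, w⁆ := by simp only [commutatorElement_def]; group
      have e2 : ⁅w, x * y⁆ = ⁅w, x⁆ * (x * ⁅w, y⁆ * x⁻¹) := by simp only [commutatorElement_def]; group
      have c1 := (hUcom (hBU hy hw) hx).eq
      have c2 := (hUcom (hBU hw hy) hx).eq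
      refine ⟨?_, ?_⟩
      · rw [e1, ← c1, mul_inv_cancel_right]
        exact (hUcom (hBU hy hw) (hUB (hBU hx hw))).eq
      · rw [e2, ← c2, mul_inv_cancel_right]
    have hkB := hBn.conj_mem z hz.1
    have hkB' : ∀ i : G, i⁻¹ * z * i ∈ B := fun i => by simpa using hkB i⁻¹
    rw [← commutatorElement_eq_one_iff_commute]
    obtain ⟨hkR, hkO⟩ := hk
    obtain ⟨hlR, hlO⟩ := hl
    show ⁅k * z * k⁻¹ * (k⁻¹ * z * k), l * z * l⁻¹ * (l⁻¹ * z * l)⁆ = 1
    have hk2 : k⁻¹ * z * k = k⁻¹ * z * k⁻¹⁻¹ := by rw [inv_inv]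
    have hl2 : l⁻¹ * z * l = l⁻¹ * z * l⁻¹⁻¹ := by rw [inv_inv]
    rw [hk2, hl2, (hbil _ _ _ (hkB k) (hkB k⁻¹) (B.mul_mem (hkB l) (hkB l⁻¹))).1,
      (hbil _ _ _ (hkB l) (hkB l⁻¹) (hkB k)).2, (hbil _ _ _ (hkB l) (hkB l⁻¹) (hkB k⁻¹)).2,
      hconj k hkO l, hconj k hkO l⁻¹, hconj k⁻¹ (O.inv_mem hkO) l, hconj k⁻¹ (O.inv_mem hkO) l⁻¹, inv_inv]
    have hsw : ∀ x ∈ R, ∀ x' ∈ R, ρ (x * x') = ρ (x' * x) := fun x hx x' hx' => by
      rw [map_mul, map_mul, hρcomm x hx x' hx']
    have p1 : F (k⁻¹ * l⁻¹) = (F (k * l))⁻¹ := by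
      rw [← hF2 _ (O.mul_mem hkO hlO)]
      exact hF1 _ _ (by rw [mul_inv_rev]; exact hsw _ (R.inv_mem hkR) _ (R.inv_mem hlR))
    have p2 : F (k * l⁻¹) = (F (k⁻¹ * l))⁻¹ := by
      rw [← hF2 _ (O.mul_mem (O.inv_mem hkO) hlO)]
      exact hF1 _ _ (by rw [mul_inv_rev, inv_inv]; exact hsw _ hkR _ (R.inv_mem hlR))
    rw [p1, p2]
    have c := (hUcom (hFU (k⁻¹ * l)) (hUB (hFU (k * l)))).eq
    calc F (k⁻¹ * l) * (F (k * l))⁻¹ * (F (k * l) * (F (k⁻¹ * l))⁻¹) = 1 := by group
      _ = 1 := rfl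
  have hMab : M ≤ centralizer (M : Set G) := by
    have h2 : U ≤ centralizer (M : Set G) := hUc.trans (centralizer_le hMB)
    refine sup_le h2 ((closure_le _).2 ?_)
    rintro _ ⟨k, hk, rfl⟩
    rw [SetLike.mem_coe, centralizer_sup]
    refine ⟨mem_centralizer_iff.2 fun u hu => (hUcom hu (hgenB k)).eq, ?_⟩
    rw [centralizer_closure]
    refine mem_centralizer_iff.2 ?_
    rintro _ ⟨l, hl, rfl⟩
    exact (hgc l hl k hk).eq
  have hAM : A ≤ normalizer (M : Set G) := by
    refine Subgroup.le_normalizer_iff.2 fun b hb => ?_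
    suffices h : M ≤ M.comap (MulAut.conj b).toMonoidHom from fun x hx => mem_comap.1 (h hx)
    refine sup_le (fun u hu => mem_comap.2 (mem_sup_left (hUn.conj_mem u hu b))) ((closure_le _).2 ?_)
    rintro _ ⟨k, hk, rfl⟩
    show b * gen k * b⁻¹ ∈ M
    let u := b * z * b⁻¹ * z⁻¹
    have hu : u ∈ U := by
      rw [← hfU, show u = (b * z * b⁻¹) * z⁻¹ from rfl, map_mul, (hLc b hz).2, map_inv, hz.2,
        show ρ b v = v from hv ⟨b, hb⟩, mul_inv_cancel]
    let k' := b * k * b⁻¹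
    have hk' : k' ∈ K := ⟨hRn.conj_mem k hk.1 b, (inferInstance : O.Normal).conj_mem k hk.2 b⟩
    have e1 : b * gen k * b⁻¹ = (k' * u * k'⁻¹) * (k' * z * k'⁻¹) * ((k'⁻¹ * u * k') * (k'⁻¹ * z * k')) := by
      simp only [gen, k', u]; group
    have e2 : k'⁻¹ * u * k' = u := by simpa using hOU' (O.inv_mem hk'.2) hu
    rw [e1, hOU' hk'.2 hu, e2]
    have c := (hUcom hu (hBn.conj_mem z hz.1 k')).eq
    rw [show u * (k' * z * k'⁻¹) * (u * (k'⁻¹ * z * k')) = u * u * gen k' by
      simp only [gen]; rw [← mul_assoc _ u, mul_assoc u (k' * z * k'⁻¹) u, ← c]; group]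
    exact mul_mem (mem_sup_left (U.mul_mem hu hu)) (mem_sup_right (Subgroup.subset_closure ⟨k', hk', rfl⟩))
  obtain ⟨w, hwM, hwy⟩ : ∃ w ∈ M, L w (evh y) := by
    clear hcard hd3 hd4
    induction hyP using AddSubgroup.closure_induction with
    | mem x hx =>
      obtain ⟨r, rfl⟩ := hx
      obtain ⟨k, hkR, hkO, hk⟩ := hrep r r.2
      refine ⟨gen k, mem_sup_right (Subgroup.subset_closure ⟨k, ⟨hkR, hkO⟩, rfl⟩), ?_⟩
      have hk' : ρ k⁻¹ = ρ (r : G)⁻¹ := by
        refine hθρ _ _ ?_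
        rw [map_inv, map_inv, hρθ _ _ hk]
      have h1 := hLm (hLc k hz) (hLc k⁻¹ hz)
      rw [inv_inv, hk, hk'] at h1
      show L (gen k) (ev (mk (e r + e r⁻¹)))
      rw [hev]
      exact h1
    | zero => exact ⟨1, M.one_mem, B.one_mem, by rw [map_zero, map_one]; rfl⟩
    | add x x' _ _ ihx ihy =>
      obtain ⟨w, hw, hL⟩ := ihx
      obtain ⟨w', hw', hL'⟩ := ihy
      exact ⟨w * w', M.mul_mem hw hw', by rw [map_add]; exact hLm hL hL'⟩
    | neg x _ ih =>
      obtain ⟨w, hw, hL⟩ := ih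
      exact ⟨w⁻¹, M.inv_mem hw, by rw [map_neg]; exact hLi hL⟩
  have hMS : M ≤ (S : Subgroup G) := hMB.trans (hBH.trans hHS)
  have hLcomm : ∀ (b : A) {x : G} {ξ : E ⧸ I}, L x (evh ξ) → L ⁅(b : G), x⁆ (evh (σ b ξ - ξ)) := fun b x ξ h => by
    rw [commutatorElement_def, map_sub, ← hevσ, sub_eq_add_neg]
    exact hLm (hLc _ h) (hLi h)
  let d1 := σ a y - y
  let d2 := σ a d1 - d1
  let d3 := σ a d2 - d2
  let n1 := ⁅(a : G), w⁆
  let n2 := ⁅(a : G), n1⁆
  let Ncl := Subgroup.closure {x : G | ∃ b ∈ A, x = ⁅b, w⁆}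
  have hn1 : n1 ∈ Ncl := Subgroup.subset_closure ⟨a, a.2, rfl⟩
  have hn2 : n2 ∈ Ncl := by
    have e1 : n2 = ⁅(a : G) * a, w⁆ * n1⁻¹ * n1⁻¹ := by simp only [n2, n1, commutatorElement_def]; group
    rw [e1]
    exact mul_mem (mul_mem (Subgroup.subset_closure ⟨_, A.mul_mem a.2 a.2, rfl⟩) (inv_mem hn1)) (inv_mem hn1)
  have hL1 : L n1 (evh d1) := hLcomm a hwy
  have hL2 : L n2 (evh d2) := hLcomm a hL1
  let T := (fun x => σ a (x - y) - (x - y)) '' Set.range (fun b => σ b y)
  have hrT : ∀ i j : ℕ, i • d2 + j • d3 ∈ T := by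
    intro i j
    obtain ⟨b, hb, hmem⟩ := exists_commutator_mul_mem hA hMS hMab hAM hwM
      (n := n1 ^ i * n2 ^ j) (mul_mem (pow_mem hn1 i) (pow_mem hn2 j))
    let t := ⁅b, w⁆⁻¹ * (n1 ^ i * n2 ^ j)
    let μ := (i • d1 + j • d2) - (σ ⟨b, hb⟩ y - y)
    have hLt : L t (evh μ) := by
      have := hLm (hLi (hLcomm ⟨b, hb⟩ hwy)) (hLm (hLn i hL1) (hLn j hL2))
      rw [show evh μ = -evh (σ ⟨b, hb⟩ y - y) + (i • evh d1 + j • evh d2) by
        rw [← map_nsmul, ← map_nsmul, ← map_add, ← map_neg, ← map_add]; congr 1; simp only [μ]; abel]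
      exact this
    have h2 : σ a μ = μ := by
      refine hev_inj ?_
      show evh (σ a μ) = evh μ
      rw [← hevσ]
      have h3 := hLc (a : G) hLt
      rw [(commute_of_le_centralizer (Subgroup.le_centralizer_iff_isMulCommutative.2 hA.2.1) a.2 hmem.1).eq,
        mul_inv_cancel_right] at h3
      exact hLu h3 hLt
    refine ⟨σ ⟨b, hb⟩ y, ⟨⟨b, hb⟩, rfl⟩, ?_⟩
    have h4 : σ ⟨b, hb⟩ y - y = (i • d1 + j • d2) - μ := by simp only [μ]; abel
    show σ a (σ ⟨b, hb⟩ y - y) - (σ ⟨b, hb⟩ y - y) = _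
    rw [h4, map_sub, map_add, map_nsmul, map_nsmul, h2]
    simp only [d2, d3, smul_sub]
    abel
  have hfinT : (Set.range fun b => σ b y).Finite := Set.finite_range _
  have hTcard : T.ncard ≤ p := (Set.ncard_image_le hfinT).trans hcard
  have hunit : ∀ i i' : ℕ, i < p → i' < p → (i : E ⧸ I) * d3 = (i' : E ⧸ I) * d3 → i = i' := by
    intro i i' hi hi' h
    by_contra hne
    have hz : ((i : ZMod p) - (i' : ZMod p)) ≠ 0 := fun h' => hne (by
      rw [sub_eq_zero, ZMod.natCast_eq_natCast_iff'] at h'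
      rwa [Nat.mod_eq_of_lt hi, Nat.mod_eq_of_lt hi'] at h')
    have hu := (Ne.isUnit hz).map (ZMod.castHom dvd_rfl (E ⧸ I))
    rw [map_sub, map_natCast, map_natCast] at hu
    refine hd3 ((hu.mul_right_eq_zero).1 ?_)
    show ((i : E ⧸ I) - i') * d3 = 0
    rw [sub_mul, h, sub_self]
  have hinj : Set.InjOn (fun ij : ℕ × ℕ => ij.1 • d2 + ij.2 • d3) ↑(Finset.range p ×ˢ Finset.range p) := by
    rintro ⟨i, j⟩ hij ⟨i', j'⟩ hij' h
    rw [Finset.mem_coe, Finset.mem_product, Finset.mem_range, Finset.mem_range] at hij hij'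
    have h' : i • d2 + j • d3 = i' • d2 + j' • d3 := h
    have h'' := congrArg (σ a) h'
    have e2 : σ a d2 = d2 + d3 := by simp only [d3]; abel
    have e3 : σ a d3 = d3 := hd4 a
    simp only [map_add, map_nsmul, e2, e3] at h''
    simp only [nsmul_eq_mul] at h' h''
    have hi : i = i' := hunit i i' hij.1 hij'.1 (by linear_combination h'' - h')
    subst hi
    have hj : j = j' := hunit j j' hij.2 hij'.2 (by linear_combination h')
    subst hj
    rfl
  have h1 := Set.ncard_le_ncard_of_injOn (fun ij : ℕ × ℕ => ij.1 • d2 + ij.2 • d3)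
    (fun ij _ => hrT ij.1 ij.2) hinj (hfinT.image _)
  rw [Set.ncard_coe_finset, Finset.card_product, Finset.card_range] at h1
  have := h1.trans hTcard
  nlinarith

end Cfsg.Agent.JBound
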