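import Cfsg.Agent.EqLemmas

/-!
An abelian `p`-group of automorphisms of a reduced ring of characteristic `p ≥ 5` (namespace `Cfsg.Agent.JBound`).

* `exists_moved_socle`: an element of an invariant subgroup which is moved, all of whose differences are fixed
* `exists_cubic`: in an invariant `P` (closed under products, with an invariant odd part) an element with orbit
  of size at most `p` on which `(σ a - 1)³` is nonzero and `(σ a - 1)⁴` vanishes
-/

set_option autoImplicit false

namespace Cfsg.Agent.JBound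

variable {Q : Type*} [CommRing Q] {p : ℕ} [Fact p.Prime] [CharP Q p] {A : Type*} [Group A] [Finite A]

/-- The element lies in `P`, is moved, and all differences are fixed. -/
def Socle (σ : A →* (Q →+* Q)) (x : Q) : Prop :=
  (∃ b, σ b x ≠ x) ∧ ∀ b c, σ c (σ b x - x) = σ b x - x

theorem charP_addEnd : CharP (AddMonoid.End Q) p := by
  refine ⟨fun n => ⟨fun h => ?_, fun h => ?_⟩⟩
  · rw [← CharP.cast_eq_zero_iff Q p]
    have h1 : (n : AddMonoid.End Q) 1 = (0 : Q) := by rw [h]; rfl
    rw [AddMonoid.End.natCast_apply] at h1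
    simpa using h1
  · refine DFunLike.ext _ _ fun x => ?_
    rw [AddMonoid.End.natCast_apply, nsmul_eq_mul, (CharP.cast_eq_zero_iff Q p n).2 h, zero_mul]
    rfl

theorem exists_moved_socle (hA : IsPGroup p A) (hcomm : ∀ a b : A, a * b = b * a) (σ : A →* (Q →+* Q))
    (W : AddSubgroup Q) (hW : ∀ a, ∀ w ∈ W, σ a w ∈ W) (hne : ∃ w ∈ W, ∃ b, σ b w ≠ w) :
    ∃ x ∈ W, Socle σ x := by
  classical
  haveI := charP_addEnd (Q := Q) (p := p)
  have := Fintype.ofFinite A
  have hcl : ∀ (b c : A) (w : Q), σ b (σ c w) = σ c (σ b w) := fun b c w => by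
    show (σ b * σ c) w = (σ c * σ b) w
    rw [← map_mul, ← map_mul, hcomm]
  suffices h : ∀ s : Finset A, ∃ x ∈ W, (∃ b, σ b x ≠ x) ∧ ∀ b ∈ s, ∀ c, σ c (σ b x - x) = σ b x - x by
    obtain ⟨x, hx, hm, hs⟩ := h Finset.univ
    exact ⟨x, hx, hm, fun b => hs b (Finset.mem_univ b)⟩
  intro s
  induction s using Finset.induction with
  | empty =>
    obtain ⟨w, hw, hb⟩ := hne
    exact ⟨w, hw, hb, fun b hb => absurd hb (Finset.notMem_empty b)⟩
  | insert d s _ ih =>
    obtain ⟨x, hx, hm, hs⟩ := ih
    let sd : AddMonoid.End Q := (σ d).toAddMonoidHom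
    set f : AddMonoid.End Q := sd - 1 with hf
    have hfa : ∀ z, f z = σ d z - z := fun z => rfl
    obtain ⟨j, hj⟩ := hA d
    have hnil : f ^ p ^ j = 0 := by
      rw [hf, sub_pow_char_pow_of_commute _ _ (Commute.one_right _), one_pow, sub_eq_zero]
      have key : ∀ n : ℕ, sd ^ n = (σ (d ^ n)).toAddMonoidHom := by
        intro n
        induction n with
        | zero => rw [pow_zero, pow_zero, map_one]; rfl
        | succ n ihn => rw [pow_succ, pow_succ, ihn, map_mul]; rfl
      rw [key, hj, map_one]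
      rfl
    -- the last image of `x` which is moved
    have hex : ∃ n, ∀ b, σ b ((f ^ n) x) = (f ^ n) x :=
      ⟨p ^ j, fun b => by rw [hnil]; exact map_zero _⟩
    set n := Nat.find hex with hn
    have hn0 : n ≠ 0 := fun h => by
      obtain ⟨b, hb⟩ := hm
      have := Nat.find_spec hex b
      rw [← hn, h, pow_zero] at this
      exact hb this
    obtain ⟨i, hi⟩ := Nat.exists_eq_succ_of_ne_zero hn0
    have hmem : ∀ k, (f ^ k) x ∈ W := by
      intro k
      induction k with
      | zero => exact hx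
      | succ k ihk =>
        rw [pow_succ']
        show f ((f ^ k) x) ∈ W
        rw [hfa]
        exact W.sub_mem (hW d _ ihk) ihk
    have hmoved := Nat.find_min hex (show i < Nat.find hex by rw [← hn, hi]; exact Nat.lt_succ_self i)
    push Not at hmoved
    refine ⟨(f ^ i) x, hmem i, hmoved, fun b hb c => ?_⟩
    rcases Finset.mem_insert.1 hb with rfl | hb
    · have := Nat.find_spec hex c
      rw [← hn, hi, pow_succ'] at this
      exact this
    · -- `σ b - 1` commutes with `f`
      have hk : ∀ k, σ b ((f ^ k) x) - (f ^ k) x = (f ^ k) (σ b x - x) := by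
        intro k
        induction k with
        | zero => rfl
        | succ k ihk =>
          rw [pow_succ']
          show σ b (f ((f ^ k) x)) - f ((f ^ k) x) = f ((f ^ k) (σ b x - x))
          rw [← ihk, hfa, hfa, map_sub, map_sub, hcl b d]
          abel
      have hk' : ∀ k, σ c ((f ^ k) (σ b x - x)) = (f ^ k) (σ b x - x) := by
        intro k
        induction k with
        | zero => exact hs b hb c
        | succ k ihk =>
          rw [pow_succ']
          show σ c (f ((f ^ k) (σ b x - x))) = f ((f ^ k) (σ b x - x))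
          rw [hfa, map_sub, hcl c d, ihk]
      rw [hk]
      exact hk' i

/-- In a reduced ring, `u ^ (p-1) * β = β ^ p` for all `u = γ + j β` forces `β = 0`. -/
theorem eq_zero_of_pencil [IsReduced Q] {β γ : Q}
    (h : ∀ j : ℕ, (γ + j • β) ^ (p - 1) * β = β ^ p) : β = 0 := by
  by_contra hβ
  have hnil : ¬ IsNilpotent β := fun hn => hβ hn.eq_zero
  rw [nilpotent_iff_mem_prime] at hnil
  push Not at hnil
  obtain ⟨I, hI, hβI⟩ := hnil
  set π := Ideal.Quotient.mk I
  haveI := Ideal.Quotient.isDomain I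
  haveI : CharP (Q ⧸ I) p := charP_of_injective_ringHom (π.comp (ZMod.castHom dvd_rfl Q)).injective p
  set b := π β
  set c := π γ
  have hb : b ≠ 0 := fun e => hβI (Ideal.Quotient.eq_zero_iff_mem.1 e)
  have h2 := (Fact.out : p.Prime).two_le
  have hu : ∀ j : ℕ, (c + j • b) ^ (p - 1) = b ^ (p - 1) := fun j => by
    have := congrArg π (h j)
    rw [map_mul, map_pow, map_add, map_nsmul, map_pow] at this
    refine mul_right_cancel₀ hb (this.trans ?_)
    rw [← pow_succ, Nat.sub_add_cancel (by omega)]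
  -- `c` is a root of `X ^ p - b ^ (p-1) X`, hence a multiple of `b`
  open Polynomial in
  have hroot : ∃ j : ℕ, c + j • b = 0 := by
    by_contra hc
    push Not at hc
    let P : (Q ⧸ I)[X] := X ^ p - C (b ^ (p - 1)) * X
    have hdeg : P.natDegree ≤ p := by
      refine (natDegree_sub_le _ _).trans (max_le (natDegree_X_pow _).le ?_)
      exact (natDegree_C_mul_le _ _).trans (natDegree_X_le.trans (by omega))
    have hev : ∀ z, z ^ (p - 1) * z = b ^ (p - 1) * z → P.eval z = 0 := fun z hz => by
      simp only [P, eval_sub, eval_pow, eval_X, eval_mul, eval_C]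
      rw [← hz, ← pow_succ, Nat.sub_add_cancel (by omega), sub_self]
    have hP0 : P ≠ 0 := fun e => by
      have := congrArg (fun q : (Q ⧸ I)[X] => q.coeff p) e
      simp only [P, coeff_sub, coeff_X_pow_self, coeff_C_mul, coeff_zero] at this
      rw [coeff_X_of_ne_one (by omega), mul_zero, sub_zero] at this
      exact one_ne_zero this
    classical
    let S : Finset (Q ⧸ I) := insert c ((Finset.univ : Finset (ZMod p)).image fun j => (j.val : Q ⧸ I) * b)
    have hS : S.val ≤ P.roots := by
      refine (Multiset.le_iff_subset S.nodup).2 fun z hz => ?_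
      rw [mem_roots hP0]
      refine hev z ?_
      rcases Finset.mem_insert.1 hz with rfl | hz
      · have := hu 0
        rw [zero_nsmul, add_zero] at this
        rw [this]
      · obtain ⟨j, -, rfl⟩ := Finset.mem_image.1 hz
        rcases eq_or_ne (j.val : Q ⧸ I) 0 with e | e
        · rw [e, zero_mul, mul_zero, mul_zero]
        rw [mul_pow]
        have : (j.val : Q ⧸ I) ^ (p - 1) = 1 := by
          have hj : (j.val : ZMod p) ≠ 0 := fun e' => e (by
            rw [ZMod.natCast_eq_zero_iff] at e'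
            exact (CharP.cast_eq_zero_iff (Q ⧸ I) p _).2 e')
          have h1 := congrArg (ZMod.castHom dvd_rfl (Q ⧸ I)) (ZMod.pow_card_sub_one_eq_one hj)
          rwa [map_pow, map_natCast, map_one] at h1
        rw [this, one_mul]
    have hcard : S.card = p + 1 := by
      rw [Finset.card_insert_of_notMem, Finset.card_image_of_injective, Finset.card_univ, ZMod.card]
      · intro i j hij
        have h1 := mul_right_cancel₀ hb hij
        rw [CharP.natCast_eq_natCast (Q ⧸ I) p, ← ZMod.natCast_eq_natCast_iff] at h1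
        simpa using h1
      · intro hmem
        obtain ⟨j, -, hj⟩ := Finset.mem_image.1 hmem
        refine hc ((p - 1) * j.val) ?_
        rw [nsmul_eq_mul, ← hj, Nat.cast_mul, Nat.cast_sub (by omega), CharP.cast_eq_zero (Q ⧸ I) p, Nat.cast_one]
        ring
    have := (Multiset.card_le_card hS).trans ((card_roots' P).trans hdeg)
    rw [← Finset.card_def, hcard] at this
    omega
  obtain ⟨j, hj⟩ := hroot
  have := hu j
  rw [hj, zero_pow (by omega)] at this
  exact hb (eq_zero_of_pow_eq_zero this.symm)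

theorem exists_cubic [IsReduced Q] (h5 : 5 ≤ p) (hA : IsPGroup p A) (hcomm : ∀ a b : A, a * b = b * a)
    (σ : A →* (Q →+* Q)) (P N : AddSubgroup Q) (hP : ∀ x ∈ P, ∀ y ∈ P, x * y ∈ P)
    (hN : ∀ x ∈ N, ∀ y ∈ N, x * y ∈ P) (hσP : ∀ a, ∀ x ∈ P, σ a x ∈ P) (hσN : ∀ a, ∀ x ∈ N, σ a x ∈ N)
    (hspan : ∀ q : Q, ∃ x ∈ P, ∃ y ∈ N, q = x + y) (hne : ∃ a q, σ a q ≠ q) :
    ∃ y ∈ P, ∃ a : A, (Set.range fun b => σ b y).ncard ≤ p ∧
      σ a (σ a (σ a y - y) - (σ a y - y)) - (σ a (σ a y - y) - (σ a y - y)) ≠ 0 ∧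
      ∀ b, σ b (σ a (σ a (σ a y - y) - (σ a y - y)) - (σ a (σ a y - y) - (σ a y - y))) =
        σ a (σ a (σ a y - y) - (σ a y - y)) - (σ a (σ a y - y) - (σ a y - y)) := by
  classical
  have hp := (Fact.out : p.Prime)
  have hcast : ∀ n : ℕ, 0 < n → n < p → (n : Q) ≠ 0 ∧ IsUnit (n : Q) := fun n h0 hn => by
    have hz : (n : ZMod p) ≠ 0 := fun e => Nat.not_dvd_of_pos_of_lt h0 hn ((ZMod.natCast_eq_zero_iff n p).1 e)
    have hu : IsUnit (n : Q) := by
      have := (Ne.isUnit hz).map (ZMod.castHom dvd_rfl Q)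
      rwa [map_natCast] at this
    haveI : Nontrivial Q := CharP.nontrivial_of_char_ne_one hp.ne_one
    exact ⟨hu.ne_zero, hu⟩
  -- `P` is moved
  have hPne : ∃ w ∈ P, ∃ b, σ b w ≠ w := by
    by_contra hno
    push Not at hno
    have hNne : ∃ w ∈ N, ∃ b, σ b w ≠ w := by
      obtain ⟨a, q, hq⟩ := hne
      obtain ⟨x, hx, y, hy, rfl⟩ := hspan q
      refine ⟨y, hy, a, fun e => hq ?_⟩
      rw [map_add, hno x hx a, e]
    obtain ⟨x, hx, ⟨b, hb⟩, hs⟩ := exists_moved_socle hA hcomm σ N hσN hNne
    apply hb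
    set d := σ b x - x with hd
    have hbx : σ b x = x + d := by rw [hd]; ring
    have h1 : 2 * x * d + d ^ 2 = 0 := by
      have := hno (x * x) (hN x hx x hx) b
      rw [map_mul, hbx] at this
      linear_combination this
    have h2 : 2 * (x + d) * d + d ^ 2 = 0 := by
      have := congrArg (σ b) h1
      rwa [map_add, map_mul, map_mul, map_pow, map_ofNat, map_zero, hbx, hs b b] at this
    have h3 : ((2 : ℕ) : Q) * d ^ 2 = 0 := by push_cast; linear_combination h2 - h1
    rw [(hcast 2 two_pos (by omega)).2.mul_right_eq_zero] at h3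
    rw [← sub_eq_zero]
    exact eq_zero_of_pow_eq_zero h3
  -- among the socle elements, one with the largest stabiliser
  obtain ⟨K, ⟨x, hxP, hxs, rfl⟩, hmax⟩ := Set.exists_max_image
    {K : Set A | ∃ x ∈ P, Socle σ x ∧ K = {b | σ b x = x}} Set.ncard (Set.toFinite _) (by
      obtain ⟨x, hx, hs⟩ := exists_moved_socle hA hcomm σ P hσP hPne
      exact ⟨_, x, hx, hs, rfl⟩)
  obtain ⟨⟨c₀, hc₀⟩, hfix⟩ := hxs
  set d : A → Q := fun b => σ b x - x with hd
  have hdP : ∀ b, d b ∈ P := fun b => P.sub_mem (hσP b x hxP) hxP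
  have hbx : ∀ b, σ b x = x + d b := fun b => by rw [hd]; ring
  have hdfix : ∀ b c, σ c (d b) = d b := hfix
  have hdmul : ∀ b c, d (b * c) = d b + d c := fun b c => by
    have h1 : σ (b * c) x = σ b (σ c x) := by rw [map_mul]; rfl
    rw [hbx c, map_add, hbx b, hdfix c b, hbx (b * c)] at h1
    linear_combination h1
  have hdpow : ∀ b (n : ℕ), d (b ^ n) = n • d b := by
    intro b n
    induction n with
    | zero => simp [hd]
    | succ n ih => rw [pow_succ, hdmul, ih, succ_nsmul]
  -- the differences are multiples of one of them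
  have hline : ∀ b, ∃ i : ℕ, i < p ∧ d b = i • d c₀ := by
    by_contra hno
    push Not at hno
    obtain ⟨b, hb⟩ := hno
    have hnp : ∀ n : ℕ, ((n % p : ℕ) : Q) = (n : Q) := fun n => by
      rw [CharP.natCast_eq_natCast Q p]
      exact Nat.mod_modEq n p
    have hb' : ∀ i : ℕ, d b ≠ i • d c₀ := fun i h => hb (i % p) (Nat.mod_lt _ hp.pos) (by
      rw [h, nsmul_eq_mul, nsmul_eq_mul, hnp])
    have hc0 : d c₀ ≠ 0 := sub_ne_zero.2 hc₀
    -- the twisted element is fixed
    have key : ∀ c, d c ≠ 0 → ∀ e, d c ^ (p - 1) * d e = d e ^ p := by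
      intro c hc e
      set z := x ^ p - d c ^ (p - 1) * x
      have hpow : ∀ (w : Q), w ∈ P → ∀ n : ℕ, 0 < n → w ^ n ∈ P := fun w hw n hn => by
        induction n, hn using Nat.le_induction with
        | base => simpa using hw
        | succ n _ ih => rw [pow_succ]; exact hP _ ih _ hw
      have hzP : z ∈ P := P.sub_mem (hpow x hxP p hp.pos) (hP _ (hpow _ (hdP c) _ (by omega)) _ hxP)
      have hz : ∀ e', σ e' z - z = d e' ^ p - d c ^ (p - 1) * d e' := fun e' => by
        simp only [z, map_sub, map_mul, map_pow, hbx e', hdfix c e', add_pow_char]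
        ring
      by_contra hne'
      have hzm : σ e z ≠ z := fun h => hne' (by
        have := hz e
        rw [h, sub_self] at this
        linear_combination this)
      have hsoc : Socle σ z := ⟨⟨e, hzm⟩, fun e' f => by
        rw [hz, map_sub, map_mul, map_pow, map_pow, hdfix, hdfix]⟩
      have hle := hmax _ ⟨z, hzP, hsoc, rfl⟩
      refine not_lt_of_ge hle (Set.ncard_lt_ncard ?_ (Set.toFinite _))
      refine (Set.ssubset_iff_of_subset fun f hf => ?_).2 ⟨c, ?_, fun h => hc (sub_eq_zero.2 h)⟩
      · have hf0 : d f = 0 := sub_eq_zero.2 hf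
        show σ f z = z
        rw [← sub_eq_zero, hz, hf0, zero_pow hp.ne_zero, mul_zero, sub_zero]
      · show σ c z = z
        rw [← sub_eq_zero, hz, ← pow_succ, Nat.sub_add_cancel hp.one_lt.le, sub_self]
    refine hb' 0 (by
      rw [zero_nsmul]
      refine eq_zero_of_pencil (γ := d c₀) (p := p) fun j => ?_
      rw [← hdpow b j, ← hdmul]
      refine key _ (fun h => ?_) b
      rw [hdmul, hdpow] at h
      by_cases hj : (j : ZMod p) = 0
      · rw [nsmul_eq_mul, show (j : Q) = 0 from
          (CharP.cast_eq_zero_iff Q p j).2 ((ZMod.natCast_eq_zero_iff j p).1 hj), zero_mul, add_zero] at h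
        exact hc0 h
      · refine hb' ((-(j : ZMod p)⁻¹).val) ?_
        have h1 := congrArg (ZMod.castHom dvd_rfl Q) (show ((-(j : ZMod p)⁻¹).val : ZMod p) * j = -1 by
          rw [ZMod.natCast_zmod_val, neg_mul, inv_mul_cancel₀ hj])
        rw [map_mul, map_natCast, map_natCast, map_neg, map_one] at h1
        rw [nsmul_eq_mul] at h ⊢
        linear_combination -((-(j : ZMod p)⁻¹).val : Q) * h + d b * h1)
  refine ⟨x * x * x, hP _ (hP _ hxP _ hxP) _ hxP, c₀, ?_, ?_, ?_⟩
  · refine le_trans (Set.ncard_le_ncard (t := ((Finset.range p).image fun i =>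
      (x + i • d c₀) * (x + i • d c₀) * (x + i • d c₀) : Finset Q)) ?_ (Finset.finite_toSet _)) ?_
    · rintro _ ⟨b, rfl⟩
      obtain ⟨i, hi, hib⟩ := hline b
      rw [Finset.mem_coe, Finset.mem_image]
      exact ⟨i, Finset.mem_range.2 hi, by simp only [map_mul, hbx, hib]⟩
    · rw [Set.ncard_coe_finset]
      exact Finset.card_image_le.trans (Finset.card_range p).le
  · set δ := d c₀
    have h6 : ((6 : ℕ) : Q) * δ ^ 3 ≠ 0 := by
      have h1 : IsUnit ((6 : ℕ) : Q) := by
        have := (hcast 2 two_pos (by omega)).2.mul (hcast 3 (by omega) (by omega)).2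
        rwa [← Nat.cast_mul] at this
      rw [Ne, h1.mul_right_eq_zero]
      exact fun h => hc₀ (sub_eq_zero.1 (eq_zero_of_pow_eq_zero h))
    have e : σ c₀ δ = δ := hdfix c₀ c₀
    have es : σ c₀ x = x + δ := hbx c₀
    convert h6 using 1
    simp only [map_sub, map_mul, map_add, es, e]
    push_cast
    ring
  · intro b
    have e : ∀ f, σ f (d c₀) = d c₀ := fun f => hdfix c₀ f
    have es : σ c₀ x = x + d c₀ := hbx c₀
    simp only [map_sub, map_mul, map_add, es, e, hbx b]
    ring

end Cfsg.Agent.JBound
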